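import Cfsg.Agent.Lib.Helper12.TCG.M23x40320.Tab
import Cfsg.Agent.Lib.Helper12.TCG.M23x40320.FinRecs

/-! the final table for M23x40320, part 3 (generated, helper12) -/

set_option autoImplicit false
set_option maxRecDepth 100000

namespace Cfsg.Agent.Lib.Helper12.TCG.M23x40320

open Cfsg.Agent.Lib.Helper12.TC Cfsg.Agent.Lib.Helper12.TCG

theorem hfin_3 : allListK fr3 (fun rec => finRecG cIV F LIVE cK 5 rec) = true := by decide +kernel

theorem hlive_3 : Nat.beq (liveK fr3) LIVE3 = true := by decide +kernel

end Cfsg.Agent.Lib.Helper12.TCG.M23x40320
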