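import Cfsg.Agent.Lib.Helper12.TCG.M23x40320.Rel0
import Cfsg.Agent.Lib.Helper12.TCG.M23x40320.Rel1
import Cfsg.Agent.Lib.Helper12.TCG.M23x40320.Rel2
import Cfsg.Agent.Lib.Helper12.TCG.M23x40320.Rel3
import Cfsg.Agent.Lib.Helper12.TCG.M23x40320.Rel4
import Cfsg.Agent.Lib.Helper12.TCG.M23x40320.Rel5
import Cfsg.Agent.Lib.Helper12.TCG.M23x40320.Rel6
import Cfsg.Agent.Lib.Helper12.TCG.M23x40320.Rel7
import Cfsg.Agent.Lib.Helper12.TCG.M23x40320.Tab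
import Cfsg.Agent.Lib.Helper12.M23Ext.M23Pres

/-! the permutation representation for M23x40320 (generated, helper12) -/

set_option autoImplicit false
set_option maxRecDepth 100000
set_option linter.unusedSimpArgs false
set_option Elab.async false

namespace Cfsg.Agent.Lib.Helper12.TCG.M23x40320

open Cfsg.Agent.Lib.Helper12.TC Cfsg.Agent.Lib.Helper12.TCG Cfsg.Agent.Lib.Helper12.M23Ext.M23Pres

theorem htN : tN = cN := rfl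

theorem hperm0 : permOneG 18364758544493003040 TT 0 tN = true :=
  permOneG_of_OK (permOK_step hperm0_2 rfl
    (permOK_step hperm0_1 rfl
    (permOK_step hperm0_0 rfl
    (permOK_start 18364758544493003040 TT 0 tN))))

theorem hperm1 : permOneG 18364758544493003040 TT 1 tN = true :=
  permOneG_of_OK (permOK_step hperm1_2 rfl
    (permOK_step hperm1_1 rfl
    (permOK_step hperm1_0 rfl
    (permOK_start 18364758544493003040 TT 1 tN))))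

theorem hperm2 : permOneG 18364758544493003040 TT 2 tN = true :=
  permOneG_of_OK (permOK_step hperm2_2 rfl
    (permOK_step hperm2_1 rfl
    (permOK_step hperm2_0 rfl
    (permOK_start 18364758544493003040 TT 2 tN))))

theorem hperm3 : permOneG 18364758544493003040 TT 3 tN = true :=
  permOneG_of_OK (permOK_step hperm3_2 rfl
    (permOK_step hperm3_1 rfl
    (permOK_step hperm3_0 rfl
    (permOK_start 18364758544493003040 TT 3 tN))))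

theorem hperm4 : permOneG 18364758544493003040 TT 4 tN = true :=
  permOneG_of_OK (permOK_step hperm4_2 rfl
    (permOK_step hperm4_1 rfl
    (permOK_step hperm4_0 rfl
    (permOK_start 18364758544493003040 TT 4 tN))))

theorem hperm : permG cIV TT 5 cN = true := by
  refine permG_of_ones (fun x hx => ?_)
  interval_cases x
  · exact hperm0
  · exact hperm1
  · exact hperm2
  · exact hperm3
  · exact hperm4

/-- words as powers -/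
def specs : List (List ℕ × ℕ) :=
  [([1], 4),
   ([0, 1], 23),
   ([3], 11),
   ([3, 0, 1, 4, 0, 1, 0, 1, 0, 1, 0, 1, 0, 1, 0, 1, 0, 1], 1),
   ([4, 0, 1, 1, 0, 1, 1, 0, 2, 0, 2, 0, 1, 1, 0, 2, 0, 1, 1, 0, 1, 0, 2, 0, 1, 0, 1, 1], 1),
   ([0, 1, 1], 6),
   ([0, 2, 0, 1], 6),
   ([0, 1, 0, 2, 0, 1, 1], 4),
   ([0, 1, 0, 1, 0, 1, 0, 2, 0, 1, 1, 0, 1, 0, 2, 0, 1, 0, 2, 0, 1, 0, 1, 0, 1, 0, 2, 0, 2, 0, 2], 1),
   ([0, 1, 0, 1, 1, 0, 1, 0, 1, 1, 0, 1, 0, 1, 1, 0, 1, 1, 0, 2, 0, 1, 1, 0, 2, 0, 1, 0, 1, 1, 0, 1, 0, 2, 0, 1, 1], 1),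
   ([0], 2),
   ([1, 2], 1),
   ([2, 1], 1),
   ([3, 4], 1),
   ([4, 3], 1),
   ([], 1)]

theorem hspecs : baseL = specs.map (fun s => wpow s.1 s.2) := by
  decide +kernel

theorem hfix1 : ∀ i < tN, (Fn.applyW TT (([0, 1] : List ℕ), 23).1)^[(([0, 1] : List ℕ), 23).2] i = i :=
  Fn.fix_of_rangeOK (Fn.rangeOK_step hm1_1 rfl
    (Fn.rangeOK_step hm1_0 rfl
    (Fn.rangeOK_start TT [0, 1] 23 tN)))

theorem hfix3 : ∀ i < tN, (Fn.applyW TT (([3, 0, 1, 4, 0, 1, 0, 1, 0, 1, 0, 1, 0, 1, 0, 1, 0, 1] : List ℕ), 1).1)^[(([3, 0, 1, 4, 0, 1, 0, 1, 0, 1, 0, 1, 0, 1, 0, 1, 0, 1] : List ℕ), 1).2] i = i :=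
  Fn.fix_of_rangeOK (Fn.rangeOK_step hm3_9 rfl
    (Fn.rangeOK_step hm3_8 rfl
    (Fn.rangeOK_step hm3_7 rfl
    (Fn.rangeOK_step hm3_6 rfl
    (Fn.rangeOK_step hm3_5 rfl
    (Fn.rangeOK_step hm3_4 rfl
    (Fn.rangeOK_step hm3_3 rfl
    (Fn.rangeOK_step hm3_2 rfl
    (Fn.rangeOK_step hm3_1 rfl
    (Fn.rangeOK_step hm3_0 rfl
    (Fn.rangeOK_start TT [3, 0, 1, 4, 0, 1, 0, 1, 0, 1, 0, 1, 0, 1, 0, 1, 0, 1] 1 tN)))))))))))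

theorem hfix4 : ∀ i < tN, (Fn.applyW TT (([4, 0, 1, 1, 0, 1, 1, 0, 2, 0, 2, 0, 1, 1, 0, 2, 0, 1, 1, 0, 1, 0, 2, 0, 1, 0, 1, 1] : List ℕ), 1).1)^[(([4, 0, 1, 1, 0, 1, 1, 0, 2, 0, 2, 0, 1, 1, 0, 2, 0, 1, 1, 0, 1, 0, 2, 0, 1, 0, 1, 1] : List ℕ), 1).2] i = i :=
  Fn.fix_of_rangeOK (Fn.rangeOK_step hm4_14 rfl
    (Fn.rangeOK_step hm4_13 rfl
    (Fn.rangeOK_step hm4_12 rfl
    (Fn.rangeOK_step hm4_11 rfl
    (Fn.rangeOK_step hm4_10 rfl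
    (Fn.rangeOK_step hm4_9 rfl
    (Fn.rangeOK_step hm4_8 rfl
    (Fn.rangeOK_step hm4_7 rfl
    (Fn.rangeOK_step hm4_6 rfl
    (Fn.rangeOK_step hm4_5 rfl
    (Fn.rangeOK_step hm4_4 rfl
    (Fn.rangeOK_step hm4_3 rfl
    (Fn.rangeOK_step hm4_2 rfl
    (Fn.rangeOK_step hm4_1 rfl
    (Fn.rangeOK_step hm4_0 rfl
    (Fn.rangeOK_start TT [4, 0, 1, 1, 0, 1, 1, 0, 2, 0, 2, 0, 1, 1, 0, 2, 0, 1, 1, 0, 1, 0, 2, 0, 1, 0, 1, 1] 1 tN))))))))))))))))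

theorem hfix5 : ∀ i < tN, (Fn.applyW TT (([0, 1, 1] : List ℕ), 6).1)^[(([0, 1, 1] : List ℕ), 6).2] i = i :=
  Fn.fix_of_rangeOK (Fn.rangeOK_step hm5_1 rfl
    (Fn.rangeOK_step hm5_0 rfl
    (Fn.rangeOK_start TT [0, 1, 1] 6 tN)))

theorem hfix6 : ∀ i < tN, (Fn.applyW TT (([0, 2, 0, 1] : List ℕ), 6).1)^[(([0, 2, 0, 1] : List ℕ), 6).2] i = i :=
  Fn.fix_of_rangeOK (Fn.rangeOK_step hm6_2 rfl
    (Fn.rangeOK_step hm6_1 rfl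
    (Fn.rangeOK_step hm6_0 rfl
    (Fn.rangeOK_start TT [0, 2, 0, 1] 6 tN))))

theorem hfix7 : ∀ i < tN, (Fn.applyW TT (([0, 1, 0, 2, 0, 1, 1] : List ℕ), 4).1)^[(([0, 1, 0, 2, 0, 1, 1] : List ℕ), 4).2] i = i :=
  Fn.fix_of_rangeOK (Fn.rangeOK_step hm7_3 rfl
    (Fn.rangeOK_step hm7_2 rfl
    (Fn.rangeOK_step hm7_1 rfl
    (Fn.rangeOK_step hm7_0 rfl
    (Fn.rangeOK_start TT [0, 1, 0, 2, 0, 1, 1] 4 tN)))))

theorem hfix8 : ∀ i < tN, (Fn.applyW TT (([0, 1, 0, 1, 0, 1, 0, 2, 0, 1, 1, 0, 1, 0, 2, 0, 1, 0, 2, 0, 1, 0, 1, 0, 1, 0, 2, 0, 2, 0, 2] : List ℕ), 1).1)^[(([0, 1, 0, 1, 0, 1, 0, 2, 0, 1, 1, 0, 1, 0, 2, 0, 1, 0, 2, 0, 1, 0, 1, 0, 1, 0, 2, 0, 2, 0, 2] : List ℕ), 1).2] i = i :=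
  Fn.fix_of_rangeOK (Fn.rangeOK_step hm8_15 rfl
    (Fn.rangeOK_step hm8_14 rfl
    (Fn.rangeOK_step hm8_13 rfl
    (Fn.rangeOK_step hm8_12 rfl
    (Fn.rangeOK_step hm8_11 rfl
    (Fn.rangeOK_step hm8_10 rfl
    (Fn.rangeOK_step hm8_9 rfl
    (Fn.rangeOK_step hm8_8 rfl
    (Fn.rangeOK_step hm8_7 rfl
    (Fn.rangeOK_step hm8_6 rfl
    (Fn.rangeOK_step hm8_5 rfl
    (Fn.rangeOK_step hm8_4 rfl
    (Fn.rangeOK_step hm8_3 rfl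
    (Fn.rangeOK_step hm8_2 rfl
    (Fn.rangeOK_step hm8_1 rfl
    (Fn.rangeOK_step hm8_0 rfl
    (Fn.rangeOK_start TT [0, 1, 0, 1, 0, 1, 0, 2, 0, 1, 1, 0, 1, 0, 2, 0, 1, 0, 2, 0, 1, 0, 1, 0, 1, 0, 2, 0, 2, 0, 2] 1 tN)))))))))))))))))

theorem hfix9 : ∀ i < tN, (Fn.applyW TT (([0, 1, 0, 1, 1, 0, 1, 0, 1, 1, 0, 1, 0, 1, 1, 0, 1, 1, 0, 2, 0, 1, 1, 0, 2, 0, 1, 0, 1, 1, 0, 1, 0, 2, 0, 1, 1] : List ℕ), 1).1)^[(([0, 1, 0, 1, 1, 0, 1, 0, 1, 1, 0, 1, 0, 1, 1, 0, 1, 1, 0, 2, 0, 1, 1, 0, 2, 0, 1, 0, 1, 1, 0, 1, 0, 2, 0, 1, 1] : List ℕ), 1).2] i = i :=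
  Fn.fix_of_rangeOK (Fn.rangeOK_step hm9_18 rfl
    (Fn.rangeOK_step hm9_17 rfl
    (Fn.rangeOK_step hm9_16 rfl
    (Fn.rangeOK_step hm9_15 rfl
    (Fn.rangeOK_step hm9_14 rfl
    (Fn.rangeOK_step hm9_13 rfl
    (Fn.rangeOK_step hm9_12 rfl
    (Fn.rangeOK_step hm9_11 rfl
    (Fn.rangeOK_step hm9_10 rfl
    (Fn.rangeOK_step hm9_9 rfl
    (Fn.rangeOK_step hm9_8 rfl
    (Fn.rangeOK_step hm9_7 rfl
    (Fn.rangeOK_step hm9_6 rfl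
    (Fn.rangeOK_step hm9_5 rfl
    (Fn.rangeOK_step hm9_4 rfl
    (Fn.rangeOK_step hm9_3 rfl
    (Fn.rangeOK_step hm9_2 rfl
    (Fn.rangeOK_step hm9_1 rfl
    (Fn.rangeOK_step hm9_0 rfl
    (Fn.rangeOK_start TT [0, 1, 0, 1, 1, 0, 1, 0, 1, 1, 0, 1, 0, 1, 1, 0, 1, 1, 0, 2, 0, 1, 1, 0, 2, 0, 1, 0, 1, 1, 0, 1, 0, 2, 0, 1, 1] 1 tN))))))))))))))))))))

theorem hfix11 : ∀ i < tN, (Fn.applyW TT (([1, 2] : List ℕ), 1).1)^[(([1, 2] : List ℕ), 1).2] i = i :=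
  Fn.fix_of_rangeOK (Fn.rangeOK_step hm11_1 rfl
    (Fn.rangeOK_step hm11_0 rfl
    (Fn.rangeOK_start TT [1, 2] 1 tN)))

theorem hfix12 : ∀ i < tN, (Fn.applyW TT (([2, 1] : List ℕ), 1).1)^[(([2, 1] : List ℕ), 1).2] i = i :=
  Fn.fix_of_rangeOK (Fn.rangeOK_step hm12_1 rfl
    (Fn.rangeOK_step hm12_0 rfl
    (Fn.rangeOK_start TT [2, 1] 1 tN)))

theorem hfix13 : ∀ i < tN, (Fn.applyW TT (([3, 4] : List ℕ), 1).1)^[(([3, 4] : List ℕ), 1).2] i = i :=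
  Fn.fix_of_rangeOK (Fn.rangeOK_step hm13_1 rfl
    (Fn.rangeOK_step hm13_0 rfl
    (Fn.rangeOK_start TT [3, 4] 1 tN)))

theorem hfix14 : ∀ i < tN, (Fn.applyW TT (([4, 3] : List ℕ), 1).1)^[(([4, 3] : List ℕ), 1).2] i = i :=
  Fn.fix_of_rangeOK (Fn.rangeOK_step hm14_1 rfl
    (Fn.rangeOK_step hm14_0 rfl
    (Fn.rangeOK_start TT [4, 3] 1 tN)))

theorem hfixall : Fn.FixAll TT tN specs :=
  Fn.fixAll_cons (Fn.fix_of_marksK hm0)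
    (Fn.fixAll_cons hfix1
    (Fn.fixAll_cons (Fn.fix_of_marksK hm2)
    (Fn.fixAll_cons hfix3
    (Fn.fixAll_cons hfix4
    (Fn.fixAll_cons hfix5
    (Fn.fixAll_cons hfix6
    (Fn.fixAll_cons hfix7
    (Fn.fixAll_cons hfix8
    (Fn.fixAll_cons hfix9
    (Fn.fixAll_cons (Fn.fix_of_marksK hm10)
    (Fn.fixAll_cons hfix11
    (Fn.fixAll_cons hfix12
    (Fn.fixAll_cons hfix13
    (Fn.fixAll_cons hfix14
    (Fn.fixAll_cons (Fn.fix_of_marksK hm15)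
    (Fn.fixAll_nil TT tN))))))))))))))))

theorem hrels : Fn.relsK TT cN baseL = true := by
  rw [hspecs]
  exact Fn.relsK_of_fixAll hfixall

theorem hsub : Fn.subK TT 5 sw = true := by decide +kernel

theorem htrans : Fn.transK TT 5 cN sw = true := by decide +kernel

end Cfsg.Agent.Lib.Helper12.TCG.M23x40320
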